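/-
A `p`-group acting on a group with an invariant normal subgroup of index prime to `p`.

* `quotAct`, `isFixed_indFun`, `classInner_comp_fixed`
* `exists_fixed_constituent`, `fixed_conj`, `exists_fixed_ext`
-/
import Cfsg.Agent.Lib.CharApp.Clifford
import Cfsg.Agent.Lib.CentralChar.Twist
import Cfsg.Agent.Lib.CharExtend.Coprime
import Cfsg.Agent.Lib.Char.Linear
import Cfsg.Agent.Lib.GlauberChar.Solvable

set_option autoImplicit false
set_option linter.style.haveILetI false

namespace Cfsg.Agent.RelGlauber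

open Cfsg Cfsg.Agent.Char
open Cfsg.Agent.GlauberChar (IsFixed restrictAct fixedSub)
open scoped ComplexConjugate

variable {G : Type*} [Group G] {P : Type*} [Group P] (φ : P →* MulAut G)

theorem act_inv_act (s : P) (g : G) : φ s⁻¹ (φ s g) = g := by
  rw [← MulAut.mul_apply, ← map_mul, inv_mul_cancel, map_one]; rfl

theorem act_act_inv (s : P) (g : G) : φ s (φ s⁻¹ g) = g := by
  rw [← MulAut.mul_apply, ← map_mul, mul_inv_cancel, map_one]; rfl

/-- The action on the quotient by an invariant normal subgroup. -/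
def quotAct (N : Subgroup G) [N.Normal] (hN : ∀ (s : P), ∀ n ∈ N, φ s n ∈ N) :
    P →* MulAut (G ⧸ N) where
  toFun s := QuotientGroup.congr N N (φ s) (by
    ext x
    constructor
    · rintro ⟨n, hn, rfl⟩; exact hN s n hn
    · intro hx; exact ⟨φ s⁻¹ x, hN _ _ hx, act_act_inv φ s x⟩)
  map_one' := by
    refine MulEquiv.ext fun q => ?_
    induction q using QuotientGroup.induction_on with
    | H x => show ((φ 1 x : G) : G ⧸ N) = _; rw [map_one]; rfl
  map_mul' s t := by
    refine MulEquiv.ext fun q => ?_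
    induction q using QuotientGroup.induction_on with
    | H x => show ((φ (s * t) x : G) : G ⧸ N) = ((φ s (φ t x) : G) : G ⧸ N); rw [map_mul]; rfl

@[simp] theorem quotAct_mk (N : Subgroup G) [N.Normal] (hN : ∀ (s : P), ∀ n ∈ N, φ s n ∈ N)
    (s : P) (x : G) : quotAct φ N hN s (x : G ⧸ N) = ((φ s x : G) : G ⧸ N) := rfl

/-- Induction preserves fixed functions. -/
theorem isFixed_indFun [Fintype G] (H : Subgroup G) (hH : ∀ (s : P), ∀ h ∈ H, φ s h ∈ H) {f : H → ℂ}
    (hf : IsFixed (restrictAct φ H hH) f) : IsFixed φ (indFun H f) := by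
  intro s g
  unfold indFun
  congr 1
  refine (Fintype.sum_equiv (φ s).toEquiv _ _ fun x => ?_).symm
  show extendByZero H f (x⁻¹ * g * x) = extendByZero H f ((φ s x)⁻¹ * φ s g * φ s x)
  rw [← map_inv, ← map_mul, ← map_mul]
  by_cases h : x⁻¹ * g * x ∈ H
  · rw [extendByZero_mem _ _ h, extendByZero_mem _ _ (hH s _ h)]
    exact (hf s ⟨_, h⟩).symm
  · rw [extendByZero_not_mem _ _ h, extendByZero_not_mem]
    intro h'
    apply h
    have := hH s⁻¹ _ h'
    rwa [act_inv_act] at this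

theorem classInner_comp_fixed [Fintype G] {χ : G → ℂ} (hχ : IsFixed φ χ) (s : P) (f : G → ℂ) :
    classInner χ (fun g => f (φ s g)) = classInner χ f := by
  conv_lhs => rw [← show (fun g => χ (φ s g)) = χ from funext (hχ s)]
  exact classInner_comp_equiv (φ s) χ f

variable (N : Subgroup G) [hNn : N.Normal] (hN : ∀ (s : P), ∀ n ∈ N, φ s n ∈ N)
  {p : ℕ} [hp : Fact p.Prime] [Finite P]

omit [Finite P] in
/-- A fixed character has a fixed constituent. -/
theorem exists_fixed_constituent [Fintype G] [Fintype N] (hP : IsPGroup p P) (hidx : ¬ p ∣ N.index)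
    {χ : G → ℂ} (hχ : IsIrrCharacter G χ) (hfix : IsFixed φ χ) :
    ∃ θ : IrrCharacter N, IsFixed (restrictAct φ N hN) (θ : N → ℂ) ∧
      classInner (fun n : N => χ n) (θ : N → ℂ) ≠ 0 := by
  classical
  obtain ⟨θ₀, hθ₀⟩ := CharApp.exists_constituent
    (IsCharacter.restrict (IsIrrCharacter.isCharacter hχ) N)
    (show χ ((1 : N) : G) ≠ 0 from IsIrrCharacter.apply_one_ne_zero hχ)
  let S := {θ : IrrCharacter N | classInner (fun n : N => χ n) (θ : N → ℂ) ≠ 0}
  have hcard : ¬ p ∣ Nat.card S := by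
    letI : MulAction G (IrrCharacter N) :=
      { smul := fun g θ => ⟨CliffordChar.conjFun N g θ, CliffordChar.isIrr_conjFun N g θ.2⟩
        one_smul := fun θ => Subtype.ext (CliffordChar.conjFun_one N θ)
        mul_smul := fun g h θ => Subtype.ext (CliffordChar.conjFun_mul N g h θ) }
    have hS : S = MulAction.orbit G θ₀ := by
      ext θ
      constructor
      · intro h
        obtain ⟨x, hx⟩ := CliffordChar.constituents_conjugate N hχ θ₀.2 θ.2 hθ₀ h
        exact ⟨x, Subtype.ext hx⟩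
      · rintro ⟨x, rfl⟩
        show classInner _ (CliffordChar.conjFun N x (θ₀ : N → ℂ)) ≠ 0
        rwa [CliffordChar.classInner_restrict_conjFun N (IsIrrCharacter.isClassFunction hχ)]
    rw [Nat.card_coe_set_eq, hS, ← MulAction.index_stabilizer]
    refine fun h => hidx (h.trans (Subgroup.index_dvd_of_le fun x hx => ?_))
    exact MulAction.mem_stabilizer_iff.mpr (Subtype.ext
      (CharApp.le_inertia N (IsIrrCharacter.isClassFunction θ₀.2) hx))
  let ψ := restrictAct φ N hN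
  have hres : IsFixed ψ (fun n : N => χ n) := fun s n => hfix s n
  letI : MulAction P S :=
    { smul := fun s θ => ⟨⟨fun n => (θ.1 : N → ℂ) (ψ s⁻¹ n), IsIrrCharacter.comp_equiv θ.1.2 (ψ s⁻¹)⟩, by
        show classInner _ (fun n : N => (θ.1 : N → ℂ) (ψ s⁻¹ n)) ≠ 0
        rw [classInner_comp_fixed ψ hres]
        exact θ.2⟩
      one_smul := fun θ => Subtype.ext (Subtype.ext (funext fun n => by
        show (θ.1 : N → ℂ) (ψ (1 : P)⁻¹ n) = _
        rw [inv_one, map_one]; rfl))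
      mul_smul := fun s t θ => Subtype.ext (Subtype.ext (funext fun n => by
        show (θ.1 : N → ℂ) (ψ (s * t)⁻¹ n) = (θ.1 : N → ℂ) (ψ t⁻¹ (ψ s⁻¹ n))
        rw [mul_inv_rev, map_mul]; rfl)) }
  obtain ⟨θ, hθ⟩ := hP.nonempty_fixed_point_of_prime_not_dvd_card S hcard
  refine ⟨θ.1, fun s n => ?_, θ.2⟩
  have h : (θ.1 : N → ℂ) (ψ s⁻¹⁻¹ n) = (θ.1 : N → ℂ) n :=
    congrFun (congrArg (fun x : S => ((x : IrrCharacter N) : N → ℂ)) (hθ s⁻¹)) n
  rwa [inv_inv] at h

omit [Finite P] in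
/-- Fixed conjugate characters are conjugate by an element fixed modulo `N`. -/
theorem fixed_conj [Finite G] (hP : IsPGroup p P) (hidx : ¬ p ∣ N.index) {θ θ' : N → ℂ}
    (hθ : IsFixed (restrictAct φ N hN) θ) (hθ' : IsFixed (restrictAct φ N hN) θ') {k₀ : G}
    (h : CliffordChar.conjFun N k₀ θ = θ') :
    ∃ k : G, (∀ s : P, φ s k * k⁻¹ ∈ N) ∧ CliffordChar.conjFun N k θ = θ' := by
  classical
  have heq : ∀ (s : P) (k : G), CliffordChar.conjFun N k θ = θ' →
      CliffordChar.conjFun N (φ s k) θ = θ' := by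
    intro s k hk
    funext n
    obtain ⟨m, rfl⟩ : ∃ m, restrictAct φ N hN s m = n := (restrictAct φ N hN s).surjective n
    rw [hθ' s m, ← hk, CliffordChar.conjFun_apply, CliffordChar.conjFun_apply]
    refine Eq.trans ?_ (hθ s _)
    congr 1
    exact Subtype.ext (by simp [map_mul, map_inv])
  let X := {y : G ⧸ N // ∃ k : G, (k : G ⧸ N) = y ∧ CliffordChar.conjFun N k θ = θ'}
  let ψ := quotAct φ N hN
  letI : MulAction P X :=
    { smul := fun s y => ⟨ψ s y.1, by
        obtain ⟨k, hk, hk'⟩ := y.2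
        exact ⟨φ s k, by rw [← hk]; rfl, heq s k hk'⟩⟩
      one_smul := fun y => Subtype.ext (by show ψ 1 y.1 = y.1; rw [map_one]; rfl)
      mul_smul := fun s t y => Subtype.ext (by
        show ψ (s * t) y.1 = ψ s (ψ t y.1); rw [map_mul]; rfl) }
  have hcard : ¬ p ∣ Nat.card X := by
    have e : X ≃ ↥((CharApp.inertia N θ).map (QuotientGroup.mk' N)) :=
      { toFun := fun y => ⟨((k₀ : G) : G ⧸ N)⁻¹ * y.1, by
          obtain ⟨k, hk, hk'⟩ := y.2
          refine ⟨k₀⁻¹ * k, ?_, by rw [← hk]; rfl⟩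
          show CliffordChar.conjFun N (k₀⁻¹ * k) θ = θ
          rw [CliffordChar.conjFun_mul, hk', ← h, ← CliffordChar.conjFun_mul, inv_mul_cancel,
            CliffordChar.conjFun_one]⟩
        invFun := fun y => ⟨(k₀ : G ⧸ N) * y.1, by
          obtain ⟨t, ht, ht'⟩ := y.2
          refine ⟨k₀ * t, by rw [← ht']; rfl, ?_⟩
          rw [CliffordChar.conjFun_mul, show CliffordChar.conjFun N t θ = θ from ht, h]⟩
        left_inv := fun y => Subtype.ext (mul_inv_cancel_left _ _)
        right_inv := fun y => Subtype.ext (inv_mul_cancel_left _ _) }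
    rw [Nat.card_congr e]
    exact fun h' => hidx (h'.trans (Subgroup.card_subgroup_dvd_card _))
  obtain ⟨y, hy⟩ := hP.nonempty_fixed_point_of_prime_not_dvd_card X hcard
  obtain ⟨k, hk, hk'⟩ := y.2
  refine ⟨k, fun s => ?_, hk'⟩
  have h1 : ψ s y.1 = y.1 := congrArg Subtype.val (hy s)
  rw [← hk, quotAct_mk, QuotientGroup.eq_iff_div_mem, div_eq_mul_inv] at h1
  exact h1

omit [Finite P] in
/-- A fixed invariant character of a normal `p`-subgroup has a fixed extension. -/
theorem exists_fixed_ext [Fintype G] [Fintype N] (hP : IsPGroup p P) (hidx : ¬ p ∣ N.index)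
    (hNp : IsPGroup p N) {θ : N → ℂ} (hθ : IsIrrCharacter N θ)
    (hfix : IsFixed (restrictAct φ N hN) θ)
    (hinv : ∀ (g : G) (x : N), θ ⟨g * x * g⁻¹, hNn.conj_mem x x.2 g⟩ = θ x) :
    ∃ χ : G → ℂ, IsIrrCharacter G χ ∧ IsFixed φ χ ∧ ∀ x : N, χ x = θ x := by
  classical
  obtain ⟨a, ha⟩ := IsPGroup.iff_card.mp hNp
  obtain ⟨χ₀, hχ₀, hres⟩ := CharExtend.extends_of_coprime hθ hinv
    (ha ▸ ((hp.out.coprime_iff_not_dvd).mpr hidx).pow_left a)
  have hr : IsIrrCharacter N (fun n : N => χ₀ n) := by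
    rw [show (fun n : N => χ₀ n) = θ from funext hres]; exact hθ
  let X := {ψ : IrrCharacter G // ∀ x : N, (ψ : G → ℂ) x = θ x}
  haveI : Finite ((G ⧸ N) →* ℂˣ) := Finite.of_equiv _ (linearCharEquiv (G ⧸ N)).symm
  let lift : ((G ⧸ N) →* ℂˣ) → G →* ℂ := fun l =>
    (Units.coeHom ℂ).comp (l.comp (QuotientGroup.mk' N))
  have hlift : ∀ l (x : N), lift l (x : G) = 1 := fun l x => by
    show ((l ((x : G) : G ⧸ N) : ℂˣ) : ℂ) = 1
    rw [(QuotientGroup.eq_one_iff _).mpr x.2, map_one, Units.val_one]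
  let e : ((G ⧸ N) →* ℂˣ) → X := fun l =>
    ⟨⟨fun g => χ₀ g * lift l g, IsIrrCharacter.mul_linear hχ₀ (lift l)⟩, fun x => by
      show χ₀ (x : G) * lift l (x : G) = θ x
      rw [hlift, mul_one, hres]⟩
  have he : Function.Bijective e := by
    constructor
    · intro l l' h
      have h' : χ₀ * ⇑(lift l) = χ₀ * ⇑(lift l') :=
        congrArg (fun z : X => ((z : IrrCharacter G) : G → ℂ)) h
      have := CharApp.gallagher_injective N hχ₀ hr (isIrrCharacter_of_hom (lift l))
        (isIrrCharacter_of_hom (lift l')) (fun n => by rw [hlift, map_one])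
        (fun n => by rw [hlift, map_one]) h'
      refine MonoidHom.ext fun q => Units.ext ?_
      induction q using QuotientGroup.induction_on with
      | H x => exact congrFun this x
    · rintro ⟨ψ, hψ⟩
      obtain ⟨c, hc, hcψ⟩ := CentralChar.exists_linear_twist N hχ₀ ψ.2 hr
        (fun x => by rw [hψ x, hres x])
      refine ⟨(QuotientGroup.lift N c fun x hx => MonoidHom.mem_ker.mpr (hc x hx)).toHomUnits,
        Subtype.ext (Subtype.ext (funext fun g => ?_))⟩
      show χ₀ g * c g = (ψ : G → ℂ) g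
      rw [hcψ g, mul_comm]
  have hcard : ¬ p ∣ Nat.card X := by
    rw [← Nat.card_eq_of_bijective e he]
    intro hd
    obtain ⟨l, hl⟩ := exists_prime_orderOf_dvd_card' p hd
    refine hidx ?_
    have : orderOf l ∣ Nat.card (G ⧸ N) := orderOf_dvd_of_pow_eq_one (MonoidHom.ext fun q => by
      rw [MonoidHom.pow_apply, ← map_pow, pow_card_eq_one', map_one, MonoidHom.one_apply])
    rwa [hl] at this
  letI : MulAction P X :=
    { smul := fun s ψ => ⟨⟨fun g => (ψ.1 : G → ℂ) (φ s⁻¹ g), IsIrrCharacter.comp_equiv ψ.1.2 (φ s⁻¹)⟩,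
        fun x => (ψ.2 (restrictAct φ N hN s⁻¹ x)).trans (hfix s⁻¹ x)⟩
      one_smul := fun ψ => Subtype.ext (Subtype.ext (funext fun g => by
        show (ψ.1 : G → ℂ) (φ (1 : P)⁻¹ g) = _
        rw [inv_one, map_one]; rfl))
      mul_smul := fun s t ψ => Subtype.ext (Subtype.ext (funext fun g => by
        show (ψ.1 : G → ℂ) (φ (s * t)⁻¹ g) = (ψ.1 : G → ℂ) (φ t⁻¹ (φ s⁻¹ g))
        rw [mul_inv_rev, map_mul]; rfl)) }
  obtain ⟨ψ, hψ⟩ := hP.nonempty_fixed_point_of_prime_not_dvd_card X hcard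
  refine ⟨ψ.1, ψ.1.2, fun s g => ?_, ψ.2⟩
  have h : (ψ.1 : G → ℂ) (φ s⁻¹⁻¹ g) = (ψ.1 : G → ℂ) g :=
    congrFun (congrArg (fun x : X => ((x : IrrCharacter G) : G → ℂ)) (hψ s⁻¹)) g
  rwa [inv_inv] at h

end Cfsg.Agent.RelGlauber
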