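/-
Characters over an extendible character, parametrised by the quotient of the inertia group.

* `tw θh π β = θh * (β ∘ π)`, `exists_tw`, `tw_irr`, `tw_inner`
* `ind_tw`, `exists_ind_tw` : `β ↦ indFun T (tw θh π β)` parametrises `Irr(G|θ)`
-/
import Cfsg.Agent.Lib.CharApp.Clifford
import Cfsg.Agent.Lib.CentralChar.Twist

set_option autoImplicit false
set_option linter.style.haveILetI false

namespace Cfsg.Agent.RelGlauber

open Cfsg Cfsg.Agent.Char
open scoped ComplexConjugate

variable {G : Type*} [Group G] (N : Subgroup G) [hN : N.Normal] {T : Subgroup G} (hNT : N ≤ T)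
  {F : Type*} [Group F]

/-- The twist of an extension by a character of the quotient. -/
def tw (θh : T → ℂ) (π : T →* F) (β : F → ℂ) : T → ℂ := fun x => θh x * β (π x)

/-- Restriction from `T` to `N`. -/
def resN (ψ : T → ℂ) : N → ℂ := fun n => ψ ⟨(n : G), hNT n.2⟩

/-- `θh` extends `θ`, and `π` is onto with kernel `N`. -/
structure ExtData (θ : N → ℂ) (θh : T → ℂ) (π : T →* F) : Prop where
  irr : IsIrrCharacter N θ
  irrh : IsIrrCharacter T θh
  ext : ∀ n : N, θh ⟨(n : G), hNT n.2⟩ = θ n
  surj : Function.Surjective π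
  ker : ∀ x : T, π x = 1 ↔ (x : G) ∈ N

variable {N hNT} {θ : N → ℂ} {θh : T → ℂ} {π : T →* F}

theorem resN_tw (d : ExtData N hNT θ θh π) (β : F → ℂ) :
    resN N hNT (tw θh π β) = β 1 • θ := by
  funext n
  have h : π ⟨(n : G), hNT n.2⟩ = 1 := (d.ker _).mpr n.2
  show θh ⟨(n : G), hNT n.2⟩ * β (π ⟨(n : G), hNT n.2⟩) = β 1 * θ n
  rw [h, d.ext, mul_comm]

theorem irr_restrict (d : ExtData N hNT θ θh π) :
    IsIrrCharacter (N.subgroupOf T) (fun n : N.subgroupOf T => θh n) := by
  convert IsIrrCharacter.comp_equiv d.irr (Subgroup.subgroupOfEquivOfLe hNT) using 1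
  funext n
  exact d.ext ⟨((n : T) : G), n.2⟩

theorem trivOn_comp (d : ExtData N hNT θ θh π) (β : F → ℂ) :
    CharApp.TrivOn (N.subgroupOf T) (fun x : T => β (π x)) := by
  intro n
  show β (π (n : T)) = β (π 1)
  rw [(d.ker _).mpr n.2, map_one]

theorem resN_tw_ne_zero [Fintype N] (d : ExtData N hNT θ θh π) {β : F → ℂ}
    (hβ : IsIrrCharacter F β) : classInner (resN N hNT (tw θh π β)) θ ≠ 0 := by
  rw [resN_tw d, classInner_smul_left, classInner_irr_self d.irr, mul_one]
  exact IsIrrCharacter.apply_one_ne_zero hβ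

variable [Fintype G]

theorem tw_irr (d : ExtData N hNT θ θh π) {β : F → ℂ} (hβ : IsIrrCharacter F β) :
    IsIrrCharacter T (tw θh π β) := by
  haveI := Fintype.ofFinite T
  exact CharApp.gallagher_irr (N.subgroupOf T) d.irrh (irr_restrict d)
    (IsIrrCharacter.comp_surjective hβ π d.surj) (trivOn_comp d β)

theorem tw_injective (d : ExtData N hNT θ θh π) {β β' : F → ℂ} (hβ : IsIrrCharacter F β)
    (hβ' : IsIrrCharacter F β') (h : tw θh π β = tw θh π β') : β = β' := by
  haveI := Fintype.ofFinite T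
  have := CharApp.gallagher_injective (N.subgroupOf T) d.irrh (irr_restrict d)
    (IsIrrCharacter.comp_surjective hβ π d.surj) (IsIrrCharacter.comp_surjective hβ' π d.surj)
    (trivOn_comp d β) (trivOn_comp d β') h
  funext y
  obtain ⟨x, rfl⟩ := d.surj y
  exact congrFun this x

theorem tw_inner [Fintype T] (d : ExtData N hNT θ θh π) (β β' : IrrCharacter F) [Decidable (β = β')] :
    classInner (tw θh π (β : F → ℂ)) (tw θh π (β' : F → ℂ)) = if β = β' then 1 else 0 := by
  split_ifs with h
  · subst h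
    exact classInner_irr_self (tw_irr d β.2)
  · exact classInner_irr_of_ne (tw_irr d β.2) (tw_irr d β'.2)
      fun e => h (Subtype.ext (tw_injective d β.2 β'.2 e))

/-- Gallagher: every character of `T` over `θ` is a twist. -/
theorem exists_tw [Finite F] [Fintype N] (d : ExtData N hNT θ θh π) {ψ : T → ℂ} (hψ : IsIrrCharacter T ψ)
    (h : classInner (resN N hNT ψ) θ ≠ 0) : ∃ β : IrrCharacter F, ψ = tw θh π (β : F → ℂ) := by
  classical
  haveI := Fintype.ofFinite T
  haveI := Fintype.ofFinite (N.subgroupOf T)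
  let e := Subgroup.subgroupOfEquivOfLe hNT
  have h' : classInner (fun n : N.subgroupOf T => ψ n) (fun n : N.subgroupOf T => θh n) ≠ 0 := by
    have e1 := classInner_comp_equiv e (resN N hNT ψ) θ
    have e2 : (fun n : N.subgroupOf T => θh n) = fun n => θ (e n) :=
      funext fun n => d.ext ⟨((n : T) : G), n.2⟩
    rw [e2]
    exact fun h0 => h (e1.symm.trans h0)
  obtain ⟨β, hβ, ht, rfl⟩ :=
    CharApp.gallagher_exhaustive (N.subgroupOf T) d.irrh (irr_restrict d) hψ h'
  obtain ⟨γ, hγ⟩ := CentralChar.exists_deflation (N.subgroupOf T) ⟨β, hβ⟩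
    (fun n hn => ht ⟨n, hn⟩)
  have hk : π.ker = N.subgroupOf T := Subgroup.ext fun x => (d.ker x).trans Iff.rfl
  let i : T ⧸ N.subgroupOf T ≃* F :=
    (QuotientGroup.quotientMulEquivOfEq hk.symm).trans (QuotientGroup.quotientKerEquivOfSurjective π d.surj)
  refine ⟨⟨fun y => (γ : _ → ℂ) (i.symm y), IsIrrCharacter.comp_equiv γ.2 i.symm⟩, funext fun x => ?_⟩
  have hx : i.symm (π x) = (x : T ⧸ N.subgroupOf T) := i.symm_apply_eq.mpr rfl
  show θh x * β x = θh x * (γ : _ → ℂ) (i.symm (π x))
  rw [hx, ← hγ x]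

section induction

variable [Fintype N] (hT : T = CharApp.inertia N θ)
include hT

/-- The twists induce irreducibly, and are the only constituents over `θ`. -/
theorem ind_tw [Fintype T] (d : ExtData N hNT θ θh π) {β : F → ℂ} (hβ : IsIrrCharacter F β) :
    IsIrrCharacter G (indFun T (tw θh π β)) ∧
      classInner (fun n : N => indFun T (tw θh π β) n) θ ≠ 0 ∧
      classInner (fun x : T => indFun T (tw θh π β) x) (tw θh π β) = 1 ∧
      ∀ ψ : T → ℂ, IsIrrCharacter T ψ →
        classInner (fun x : T => indFun T (tw θh π β) x) ψ ≠ 0 →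
        classInner (resN N hNT ψ) θ ≠ 0 → ψ = tw θh π β := by
  have h0 := resN_tw_ne_zero d hβ
  have h1 := tw_irr d hβ
  subst hT
  obtain ⟨hirr, hmult, -⟩ := CharApp.clifford_correspondence N d.irr h1 h0
  have hover : classInner (fun n : N => indFun (CharApp.inertia N θ) (tw θh π β) n) θ ≠ 0 := by
    rw [hmult]; exact h0
  have hone : classInner (fun x : CharApp.inertia N θ => indFun (CharApp.inertia N θ) (tw θh π β) x)
      (tw θh π β) = 1 := by
    rw [← frobenius_reciprocity' (CharApp.inertia N θ) _ (IsIrrCharacter.isClassFunction hirr)]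
    exact classInner_irr_self hirr
  obtain ⟨ψ₀, -, -, -, huniq⟩ := CharApp.exists_correspondent N d.irr hirr hover
  have e := huniq _ h1 (by rw [hone]; exact one_ne_zero) h0
  exact ⟨hirr, hover, hone, fun ψ hψ h2 h3 => (huniq ψ hψ h2 h3).trans e.symm⟩

/-- Every character over `θ` is induced from a twist. -/
theorem exists_ind_tw [Fintype T] [Finite F] (d : ExtData N hNT θ θh π) {χ : G → ℂ}
    (hχ : IsIrrCharacter G χ) (h : classInner (fun n : N => χ n) θ ≠ 0) :
    ∃ β : IrrCharacter F, χ = indFun T (tw θh π (β : F → ℂ)) := by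
  subst hT
  obtain ⟨ψ, hψ, hind, hmult, -⟩ := CharApp.exists_correspondent N d.irr hχ h
  obtain ⟨β, hβ⟩ := exists_tw d hψ (by
    show classInner (fun n : N => ψ ⟨(n : G), _⟩) θ ≠ 0
    rw [hmult]; exact h)
  exact ⟨β, by rw [← hβ, hind]⟩

end induction

end Cfsg.Agent.RelGlauber
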