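/-
The relative Glauberman correspondence: a `p`-group acts on `K`, whose Sylow `p`-subgroup `Q` is
normal; `C / Q` is the fixed group on `K / Q`.

* `Setting`, `rm` : the data and the multiplicities
* `forward`, `backward`, `degree_modEq`
-/
import Cfsg.Agent.Lib.CharApp.CoprimeFixed
import Cfsg.Agent.Lib.MGroup.Wreath
import Cfsg.Agent.Lib.RelGlauber.Param
import Cfsg.Agent.Lib.RelGlauber.Action

set_option autoImplicit false
set_option linter.style.haveILetI false
set_option linter.unusedSectionVars false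

namespace Cfsg.Agent.RelGlauber

open Cfsg Cfsg.Agent.Char
open Cfsg.Agent.GlauberChar (IsFixed restrictAct fixedSub)
open scoped ComplexConjugate

variable {K : Type*} [Group K] [Fintype K] {P : Type*} [Group P] [Finite P] {C : Type*} [Group C]
  [Fintype C]

/-- `ι` identifies `C` with the elements of `K` fixed modulo `Q`. -/
structure Setting (p : ℕ) (φ : P →* MulAut K) (φC : P →* MulAut C) (ι : C →* K) (Q : Subgroup K) :
    Prop where
  pgroup : IsPGroup p P
  stable : ∀ (s : P), ∀ q ∈ Q, φ s q ∈ Q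
  pQ : IsPGroup p Q
  idx : ¬ p ∣ Q.index
  inj : Function.Injective ι
  range : ∀ k : K, k ∈ ι.range ↔ ∀ s : P, φ s k * k⁻¹ ∈ Q
  comm : ∀ (s : P) (c : C), ι (φC s c) = φ s (ι c)

/-- The multiplicity of `ξ` in the restriction of `χ`. -/
noncomputable def rm (ι : C →* K) (χ : K → ℂ) (ξ : C → ℂ) : ℕ :=
  ⌊(classInner (fun c : C => χ (ι c)) ξ).re⌋₊

theorem rm_spec {ι : C →* K} {χ : K → ℂ} (hχ : IsCharacter K χ) {ξ : C → ℂ} (hξ : IsCharacter C ξ) :
    classInner (fun c : C => χ (ι c)) ξ = (rm ι χ ξ : ℂ) := by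
  obtain ⟨m, hm⟩ := IsCharacter.classInner_nat (IsCharacter.comp_hom hχ ι) hξ
  rw [rm, hm]; simp

variable {p : ℕ} [hp : Fact p.Prime] {φ : P →* MulAut K} {φC : P →* MulAut C} {ι : C →* K}
  {Q : Subgroup K} [hQ : Q.Normal]

theorem Setting.le_range (h : Setting p φ φC ι Q) : Q ≤ ι.range := fun q hq =>
  (h.range q).mpr fun s => Q.mul_mem (h.stable s q hq) (Q.inv_mem hq)

theorem Setting.stableC (h : Setting p φ φC ι Q) (s : P) (c : C) (hc : c ∈ Q.comap ι) :
    φC s c ∈ Q.comap ι := by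
  show ι (φC s c) ∈ Q
  rw [h.comm]; exact h.stable s _ hc

/-- `Q ∩ C ≅ Q`. -/
noncomputable def Setting.equivQ (h : Setting p φ φC ι Q) : ↥(Q.comap ι) ≃* Q :=
  MulEquiv.ofBijective ((ι.comp (Q.comap ι).subtype).codRestrict Q fun x => x.2)
    ⟨fun a b e => Subtype.ext (h.inj (congrArg Subtype.val e)), fun q => by
      obtain ⟨c, hc⟩ := h.le_range q.2
      exact ⟨⟨c, by show ι c ∈ Q; rw [hc]; exact q.2⟩, Subtype.ext hc⟩⟩

theorem Setting.equivQ_coe (h : Setting p φ φC ι Q) (x : ↥(Q.comap ι)) :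
    ((h.equivQ x : Q) : K) = ι (x : C) := rfl

theorem Setting.not_dvd_indexC (h : Setting p φ φC ι Q) : ¬ p ∣ (Q.comap ι).index := by
  rw [Subgroup.index_comap]
  exact fun hd => h.idx (hd.trans (Subgroup.relIndex_dvd_index_of_normal _ _))

/-- The character of `Q ∩ C` attached to a character of `Q`. -/
noncomputable def Setting.down (h : Setting p φ φC ι Q) (θ : Q → ℂ) : ↥(Q.comap ι) → ℂ :=
  fun x => θ (h.equivQ x)

theorem Setting.isFixed_down (h : Setting p φ φC ι Q) {θ : Q → ℂ}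
    (hθ : IsFixed (restrictAct φ Q h.stable) θ) :
    IsFixed (restrictAct φC (Q.comap ι) h.stableC) (h.down θ) := by
  intro s x
  show θ (h.equivQ (restrictAct φC (Q.comap ι) h.stableC s x)) = θ (h.equivQ x)
  rw [← hθ s (h.equivQ x)]
  congr 1
  exact Subtype.ext (h.comm s x)

theorem Setting.over_down (h : Setting p φ φC ι Q) [Fintype Q] [Fintype (Q.comap ι)] (χ : K → ℂ)
    (θ : Q → ℂ) :
    classInner (fun x : Q.comap ι => χ (ι (x : C))) (h.down θ) =
      classInner (fun q : Q => χ q) θ :=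
  classInner_comp_equiv h.equivQ (fun q : Q => χ q) θ

omit hp in
/-- The correspondence over one fixed character of `Q`. -/
theorem Setting.over_fixed (h : Setting p φ φC ι Q) [Fact p.Prime] [Fintype Q] [Fintype (Q.comap ι)]
    {θ : Q → ℂ} (hθ : IsIrrCharacter Q θ) (hfix : IsFixed (restrictAct φ Q h.stable) θ) :
    (∀ χ : K → ℂ, IsIrrCharacter K χ → IsFixed φ χ → classInner (fun q : Q => χ q) θ ≠ 0 →
      ∃ ξ : C → ℂ, IsIrrCharacter C ξ ∧ IsFixed φC ξ ∧
        ((rm ι χ ξ : ℤ) ≡ 1 [ZMOD p] ∨ (rm ι χ ξ : ℤ) ≡ -1 [ZMOD p]) ∧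
        ∀ ξ' : C → ℂ, IsIrrCharacter C ξ' → IsFixed φC ξ' →
          classInner (fun x : Q.comap ι => ξ' x) (h.down θ) ≠ 0 → ξ' ≠ ξ → p ∣ rm ι χ ξ') ∧
    ∀ ξ : C → ℂ, IsIrrCharacter C ξ → IsFixed φC ξ →
      classInner (fun x : Q.comap ι => ξ x) (h.down θ) ≠ 0 →
      ∃ χ : K → ℂ, IsIrrCharacter K χ ∧ IsFixed φ χ ∧ ¬ p ∣ rm ι χ ξ ∧
        ∀ χ' : K → ℂ, IsIrrCharacter K χ' → IsFixed φ χ' → classInner (fun q : Q => χ' q) θ ≠ 0 →
          ¬ p ∣ rm ι χ' ξ → χ' = χ := by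
  classical
  have hθC : IsIrrCharacter (Q.comap ι) (h.down θ) := IsIrrCharacter.comp_equiv hθ h.equivQ
  obtain ⟨T, hTdef⟩ : ∃ T : Subgroup K, T = CharApp.inertia Q θ := ⟨_, rfl⟩
  obtain ⟨TC, hTCdef⟩ : ∃ TC : Subgroup C, TC = CharApp.inertia (Q.comap ι) (h.down θ) := ⟨_, rfl⟩
  have hQT : Q ≤ T := hTdef ▸ CharApp.le_inertia Q (IsIrrCharacter.isClassFunction hθ)
  have hQTC : Q.comap ι ≤ TC :=
    hTCdef ▸ CharApp.le_inertia _ (IsIrrCharacter.isClassFunction hθC)
  have hmem : ∀ c : C, c ∈ TC ↔ ι c ∈ T := by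
    intro c
    rw [hTCdef, hTdef, CharApp.mem_inertia_iff, CharApp.mem_inertia_iff]
    constructor
    · intro hc n
      obtain ⟨x, rfl⟩ := h.equivQ.surjective n
      refine Eq.trans (congrArg θ (Subtype.ext ?_)) (hc x)
      show ι c * ι (x : C) * (ι c)⁻¹ = ι (c * x * c⁻¹)
      simp
    · intro hc x
      refine Eq.trans (congrArg θ (Subtype.ext ?_)) (hc (h.equivQ x))
      show ι (c * x * c⁻¹) = ι c * ι (x : C) * (ι c)⁻¹
      simp
  have hT : ∀ (s : P), ∀ t ∈ T, φ s t ∈ T := by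
    intro s t ht
    rw [hTdef, CharApp.mem_inertia_iff] at ht ⊢
    intro n
    obtain ⟨m, rfl⟩ : ∃ m, restrictAct φ Q h.stable s m = n :=
      (restrictAct φ Q h.stable s).surjective n
    rw [hfix s m, ← ht m]
    refine Eq.trans (congrArg θ (Subtype.ext ?_)) (hfix s _)
    show φ s t * φ s m * (φ s t)⁻¹ = φ s (t * m * t⁻¹)
    simp
  have hTC : ∀ (s : P), ∀ t ∈ TC, φC s t ∈ TC := fun s t ht => by
    rw [hmem, h.comm]; exact hT s _ ((hmem t).mp ht)
  haveI := Fintype.ofFinite T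
  haveI := Fintype.ofFinite TC
  haveI := Fintype.ofFinite (Q.subgroupOf T)
  let φT := restrictAct φ T hT
  have hN' : ∀ (s : P), ∀ n ∈ Q.subgroupOf T, φT s n ∈ Q.subgroupOf T :=
    fun s n hn => h.stable s _ hn
  let eT := Subgroup.subgroupOfEquivOfLe hQT
  have hidxT : ¬ p ∣ (Q.subgroupOf T).index := fun hd =>
    h.idx (hd.trans (Subgroup.relIndex_dvd_index_of_normal Q T))
  -- a fixed extension
  obtain ⟨θh, hθh, hθhfix, hθhext⟩ := exists_fixed_ext φT (Q.subgroupOf T) hN' h.pgroup hidxT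
    (h.pQ.of_equiv eT.symm) (θ := fun x => θ (eT x)) (IsIrrCharacter.comp_equiv hθ eT)
    (fun s x => hfix s (eT x))
    (fun g x => by
      have hg : (g : K) ∈ CharApp.inertia Q θ := hTdef ▸ g.2
      exact (CharApp.mem_inertia_iff Q).mp hg (eT x))
  let π : T →* T ⧸ Q.subgroupOf T := QuotientGroup.mk' (Q.subgroupOf T)
  let φF := quotAct φT (Q.subgroupOf T) hN'
  haveI := Fintype.ofFinite (T ⧸ Q.subgroupOf T)
  haveI := Fintype.ofFinite (fixedSub φF)
  have hd : ExtData Q hQT θ θh π :=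
    ⟨hθ, hθh, fun n => hθhext ⟨⟨(n : K), hQT n.2⟩, n.2⟩, QuotientGroup.mk'_surjective _,
      fun x => QuotientGroup.eq_one_iff x⟩
  -- the same data for `C`
  let j : TC →* T := (ι.comp TC.subtype).codRestrict T fun x => (hmem (x : C)).mp x.2
  have hjfix : ∀ (x : TC) (s : P), φF s (π (j x)) = π (j x) := by
    intro x s
    show ((φT s (j x) : T) : T ⧸ Q.subgroupOf T) = ((j x : T) : T ⧸ Q.subgroupOf T)
    rw [QuotientGroup.eq_iff_div_mem, div_eq_mul_inv]
    exact (h.range _).mp ⟨(x : C), rfl⟩ s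
  let π' : TC →* fixedSub φF := (π.comp j).codRestrict _ fun x s => hjfix x s
  have hsurj : Function.Surjective π' := by
    rintro ⟨y, hy⟩
    obtain ⟨t, rfl⟩ := QuotientGroup.mk'_surjective (Q.subgroupOf T) y
    obtain ⟨c, hc⟩ := (h.range (t : K)).mpr fun s => by
      have h1 : ((φT s t : T) : T ⧸ Q.subgroupOf T) = ((t : T) : T ⧸ Q.subgroupOf T) := hy s
      rw [QuotientGroup.eq_iff_div_mem, div_eq_mul_inv] at h1
      exact h1
    refine ⟨⟨c, (hmem c).mpr (hc ▸ t.2)⟩, Subtype.ext ?_⟩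
    show π (j _) = π t
    congr 1
    exact Subtype.ext hc
  have hd' : ExtData (Q.comap ι) hQTC (h.down θ) (fun x => θh (j x)) π' := by
    refine ⟨hθC, ?_, fun n => ?_, hsurj, fun x => ?_⟩
    · haveI := Fintype.ofFinite (Q.comap ι |>.subgroupOf TC)
      have hres : IsIrrCharacter ((Q.comap ι).subgroupOf TC)
          (fun n : (Q.comap ι).subgroupOf TC => θh (j n)) := by
        convert IsIrrCharacter.comp_equiv hθC (Subgroup.subgroupOfEquivOfLe hQTC) using 1
        funext n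
        exact hd.ext (h.equivQ ⟨((n : TC) : C), n.2⟩)
      exact MGroup.isIrr_of_restrict _
        (IsCharacter.comp_hom (IsIrrCharacter.isCharacter hθh) j) hres
    · exact hd.ext (h.equivQ n)
    · rw [Subtype.ext_iff]
      exact QuotientGroup.eq_one_iff (j x)
  let ofK : (T ⧸ Q.subgroupOf T → ℂ) → K → ℂ := fun γ => indFun T (tw θh π γ)
  let ofC : (fixedSub φF → ℂ) → C → ℂ := fun β => indFun TC (tw (fun x => θh (j x)) π' β)
  have hT' := hTdef
  have hTC' := hTCdef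
  -- the multiplicity is the one of Glauberman
  have hkey : ∀ (γ : IrrCharacter (T ⧸ Q.subgroupOf T)) (β : IrrCharacter (fixedSub φF)),
      rm ι (ofK γ) (ofC β) = GlauberChar.mult φF (γ : _ → ℂ) (β : _ → ℂ) := by
    intro γ β
    obtain ⟨hχ, -, hone, huniq⟩ := ind_tw hT' hd γ.2
    obtain ⟨hξ, -, -, -⟩ := ind_tw hTC' hd' β.2
    have hη := tw_irr hd' β.2
    have hηθ := resN_tw_ne_zero hd' β.2
    set η := tw (fun x => θh (j x)) π' (β : _ → ℂ) with hη_def
    have e1 : classInner (fun c : C => ofK γ (ι c)) (ofC β) =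
        classInner (fun x : TC => ofK γ (j x)) η :=
      frobenius_reciprocity' TC η
        (IsCharacter.isClassFunction (IsCharacter.comp_hom (IsIrrCharacter.isCharacter hχ) ι))
    haveI := Fintype.ofFinite (IrrCharacter T)
    obtain ⟨c, hc, hcn⟩ := IsCharacter.decompose (IsCharacter.restrict (IsIrrCharacter.isCharacter hχ) T)
    have e2 : (fun x : TC => ofK γ (j x)) =
        ∑ ψ : IrrCharacter T, (c ψ : ℂ) • fun x : TC => (ψ : T → ℂ) (j x) := by
      funext x
      have := congrFun hc (j x)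
      simpa [Finset.sum_apply] using this
    let X : IrrCharacter T := ⟨_, tw_irr hd γ.2⟩
    have hcX : c X = 1 := by
      have := (hcn X).symm.trans hone
      exact_mod_cast this
    have e3 : classInner (fun x : TC => tw θh π (γ : _ → ℂ) (j x)) η =
        (GlauberChar.mult φF (γ : _ → ℂ) (β : _ → ℂ) : ℂ) := by
      haveI := Fintype.ofFinite (IrrCharacter (fixedSub φF))
      obtain ⟨m, hm, hm'⟩ := IsCharacter.decompose
        (IsCharacter.restrict (IsIrrCharacter.isCharacter γ.2) (fixedSub φF))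
      have e : (fun x : TC => tw θh π (γ : _ → ℂ) (j x)) =
          ∑ δ : IrrCharacter (fixedSub φF), (m δ : ℂ) • tw (fun x => θh (j x)) π' (δ : _ → ℂ) := by
        funext x
        have h1 := congrFun hm (π' x)
        simp only [Finset.sum_apply, Pi.smul_apply, smul_eq_mul] at h1
        simp only [Finset.sum_apply, Pi.smul_apply, smul_eq_mul, tw]
        show θh (j x) * (γ : _ → ℂ) ((π' x : fixedSub φF) : T ⧸ Q.subgroupOf T) = _
        rw [h1, Finset.mul_sum]
        exact Finset.sum_congr rfl fun δ _ => by ring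
      rw [e, classInner_sum_left, Finset.sum_eq_single β]
      · rw [classInner_smul_left, tw_inner hd' β β, if_pos rfl, mul_one]
        congr 1
        exact (GlauberChar.mult_eq_of_classInner φF (hm' β)).symm
      · intro δ _ hδ
        rw [classInner_smul_left, tw_inner hd' δ β, if_neg hδ, mul_zero]
      · exact fun h0 => absurd (Finset.mem_univ _) h0
    have e4 : classInner (fun c : C => ofK γ (ι c)) (ofC β) =
        (GlauberChar.mult φF (γ : _ → ℂ) (β : _ → ℂ) : ℂ) := by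
      rw [e1, e2, classInner_sum_left, Finset.sum_eq_single X]
      · rw [classInner_smul_left, hcX, Nat.cast_one, one_mul]
        exact e3
      · intro ψ _ hψ
        rw [classInner_smul_left]
        by_contra hne
        obtain ⟨h1, h2⟩ := mul_ne_zero_iff.mp hne
        refine hψ (Subtype.ext (huniq _ ψ.2 (by rw [hcn ψ]; exact h1) ?_))
        intro h3
        refine CharApp.over_trans (Subgroup.inclusion hQTC)
          (IsCharacter.comp_hom (IsIrrCharacter.isCharacter ψ.2) j) hη hθC h2 hηθ ?_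
        exact (classInner_comp_equiv h.equivQ (resN Q hQT (ψ : T → ℂ)) θ).trans h3
      · exact fun h0 => absurd (Finset.mem_univ _) h0
    have := (rm_spec (IsIrrCharacter.isCharacter hχ) (IsIrrCharacter.isCharacter hξ)).symm.trans e4
    exact_mod_cast this
  have hG : ¬ p ∣ Nat.card (T ⧸ Q.subgroupOf T) := hidxT
  have hKfix : ∀ γ : IrrCharacter (T ⧸ Q.subgroupOf T), IsFixed φF (γ : _ → ℂ) →
      IsFixed φ (ofK γ) := by
    intro γ hγ
    refine isFixed_indFun φ T hT fun s x => ?_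
    show θh (φT s x) * (γ : _ → ℂ) (φF s (π x)) = θh x * (γ : _ → ℂ) (π x)
    rw [hθhfix s x, hγ s]
  have hKfix' : ∀ γ : IrrCharacter (T ⧸ Q.subgroupOf T), IsFixed φ (ofK γ) →
      IsFixed φF (γ : _ → ℂ) := by
    intro γ hχ s
    obtain ⟨-, -, hone, huniq⟩ := ind_tw hT' hd γ.2
    have hγ' : IsIrrCharacter _ (fun y => (γ : _ → ℂ) (φF s y)) := IsIrrCharacter.comp_equiv γ.2 (φF s)
    have e : (fun x : T => tw θh π (γ : _ → ℂ) (φT s x)) =
        tw θh π (fun y => (γ : _ → ℂ) (φF s y)) := by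
      funext x
      show θh (φT s x) * _ = θh x * _
      rw [hθhfix s x]; rfl
    have e2 := huniq _ (tw_irr hd hγ') (by
      rw [← e, classInner_comp_fixed φT (χ := fun x : T => ofK γ x) (fun t x => hχ t x) s]
      rw [hone]; exact one_ne_zero) (resN_tw_ne_zero hd hγ')
    intro y
    exact congrFun (tw_injective hd hγ' γ.2 e2) y
  have hCfix : ∀ β : fixedSub φF → ℂ, IsFixed φC (ofC β) := by
    intro β
    refine isFixed_indFun φC TC hTC fun s x => ?_
    have ej : j (restrictAct φC TC hTC s x) = φT s (j x) := Subtype.ext (h.comm s x)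
    have ep : π' (restrictAct φC TC hTC s x) = π' x := Subtype.ext (by
      show π (j (restrictAct φC TC hTC s x)) = π (j x)
      rw [ej]
      exact hjfix x s)
    show θh (j _) * β (π' _) = θh (j x) * β (π' x)
    rw [ej, ep, hθhfix s]
  refine ⟨fun χ hχ hχfix hover => ?_, fun ξ hξ hξfix hover => ?_⟩
  · obtain ⟨γ, rfl⟩ := exists_ind_tw hT' hd hχ hover
    have hγ := hKfix' γ hχfix
    obtain ⟨β, hβ⟩ := GlauberChar.exists_irr_of_fixed φF hG γ
    refine ⟨ofC β, (ind_tw hTC' hd' β.2).1, hCfix β, ?_, fun ξ' hξ' _ hover' hne => ?_⟩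
    · rw [hkey γ β]
      exact GlauberChar.mult_modEq φF h.pgroup hG hγ hβ
    · obtain ⟨β', rfl⟩ := exists_ind_tw hTC' hd' hξ' hover'
      rw [hkey γ β']
      by_contra hnd
      exact hne (by rw [GlauberChar.irr_unique φF h.pgroup hG hγ hnd hβ])
  · obtain ⟨β, rfl⟩ := exists_ind_tw hTC' hd' hξ hover
    obtain ⟨γ, hγ, hnd⟩ := GlauberChar.exists_fixed_of_irr φF h.pgroup hG β
    refine ⟨ofK γ, (ind_tw hT' hd γ.2).1, hKfix γ hγ, by rw [hkey γ β]; exact hnd,
      fun χ' hχ' hfix' hover' hnd' => ?_⟩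
    obtain ⟨γ', rfl⟩ := exists_ind_tw hT' hd hχ' hover'
    rw [hkey γ' β] at hnd'
    have : γ' = γ := Subtype.ext (GlauberChar.fixed_unique φF h.pgroup hG γ'.2 γ.2
      (hKfix' γ' hfix') hγ β.2 hnd' hnd)
    rw [this]

/-- A fixed constituent of a fixed constituent, seen in `K`. -/
theorem Setting.exists_up (h : Setting p φ φC ι Q) [Fintype Q] [Fintype (Q.comap ι)] {ξ : C → ℂ}
    (hξ : IsIrrCharacter C ξ) (hfix : IsFixed φC ξ) :
    ∃ θ : Q → ℂ, IsIrrCharacter Q θ ∧ IsFixed (restrictAct φ Q h.stable) θ ∧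
      classInner (fun x : Q.comap ι => ξ x) (h.down θ) ≠ 0 := by
  obtain ⟨θC, hθC, hne⟩ := exists_fixed_constituent φC (Q.comap ι) h.stableC h.pgroup
    h.not_dvd_indexC hξ hfix
  have e : h.down (fun q => (θC : _ → ℂ) (h.equivQ.symm q)) = (θC : _ → ℂ) :=
    funext fun x => by simp [Setting.down]
  refine ⟨_, IsIrrCharacter.comp_equiv θC.2 h.equivQ.symm, fun s q => ?_, by rwa [e]⟩
  show (θC : _ → ℂ) (h.equivQ.symm (restrictAct φ Q h.stable s q)) = (θC : _ → ℂ) (h.equivQ.symm q)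
  rw [← hθC s (h.equivQ.symm q)]
  refine congrArg (θC : _ → ℂ) (h.equivQ.injective ?_)
  rw [MulEquiv.apply_symm_apply]
  refine Subtype.ext ?_
  show φ s q = ι (φC s (h.equivQ.symm q : C))
  rw [h.comm, ← h.equivQ_coe, MulEquiv.apply_symm_apply]

/-- Restriction passes constituents down to `Q`. -/
theorem Setting.over_of_rm_ne_zero (h : Setting p φ φC ι Q) [Fintype Q] [Fintype (Q.comap ι)]
    {χ : K → ℂ} (hχ : IsIrrCharacter K χ) {ξ : C → ℂ} (hξ : IsIrrCharacter C ξ) {θ : Q → ℂ}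
    (hθ : IsIrrCharacter Q θ) (h1 : rm ι χ ξ ≠ 0)
    (h2 : classInner (fun x : Q.comap ι => ξ x) (h.down θ) ≠ 0) :
    classInner (fun q : Q => χ q) θ ≠ 0 := by
  rw [← h.over_down χ θ]
  refine CharApp.over_trans (Q.comap ι).subtype
    (IsCharacter.comp_hom (IsIrrCharacter.isCharacter hχ) ι) hξ
    (IsIrrCharacter.comp_equiv hθ h.equivQ) ?_ h2
  rw [rm_spec (IsIrrCharacter.isCharacter hχ) (IsIrrCharacter.isCharacter hξ)]
  exact_mod_cast h1

/-- A fixed character has one fixed constituent on `C` of multiplicity `±1` modulo `p`. -/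
theorem Setting.forward (h : Setting p φ φC ι Q) {χ : K → ℂ} (hχ : IsIrrCharacter K χ)
    (hfix : IsFixed φ χ) :
    ∃ ξ : C → ℂ, IsIrrCharacter C ξ ∧ IsFixed φC ξ ∧
      ((rm ι χ ξ : ℤ) ≡ 1 [ZMOD p] ∨ (rm ι χ ξ : ℤ) ≡ -1 [ZMOD p]) ∧
      ∀ ξ' : C → ℂ, IsIrrCharacter C ξ' → IsFixed φC ξ' → ξ' ≠ ξ → p ∣ rm ι χ ξ' := by
  haveI := Fintype.ofFinite Q
  haveI := Fintype.ofFinite (Q.comap ι)
  obtain ⟨θ, hθ, hne⟩ := exists_fixed_constituent φ Q h.stable h.pgroup h.idx hχ hfix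
  obtain ⟨ξ, h1, h2, h3, h4⟩ := (h.over_fixed θ.2 hθ).1 χ hχ hfix hne
  refine ⟨ξ, h1, h2, h3, fun ξ' hξ' hfix' hne' => ?_⟩
  by_cases h0 : rm ι χ ξ' = 0
  · rw [h0]; exact dvd_zero p
  obtain ⟨θ', hθ', hθ'fix, hover'⟩ := h.exists_up hξ' hfix'
  obtain ⟨k₀, hk₀⟩ := CliffordChar.constituents_conjugate Q hχ θ.2 hθ' hne
    (h.over_of_rm_ne_zero hχ hξ' hθ' h0 hover')
  obtain ⟨k, hk, hk'⟩ := fixed_conj φ Q h.stable h.pgroup h.idx hθ hθ'fix hk₀
  obtain ⟨c, rfl⟩ := (h.range k).mpr hk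
  refine h4 ξ' hξ' hfix' ?_ hne'
  have e : CliffordChar.conjFun (Q.comap ι) c (h.down θ) = h.down θ' := by
    funext x
    rw [CliffordChar.conjFun_apply, ← hk']
    show (θ : Q → ℂ) _ = CliffordChar.conjFun Q (ι c) (θ : Q → ℂ) (h.equivQ x)
    rw [CliffordChar.conjFun_apply]
    refine congrArg (θ : Q → ℂ) (Subtype.ext ?_)
    show ι (c⁻¹ * (x : C) * c) = (ι c)⁻¹ * ι (x : C) * ι c
    rw [map_mul, map_mul, map_inv]
  rw [← CliffordChar.classInner_restrict_conjFun (Q.comap ι)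
    (IsIrrCharacter.isClassFunction hξ') c, e]
  exact hover'

/-- A fixed character of `C` is the special constituent of exactly one fixed character. -/
theorem Setting.backward (h : Setting p φ φC ι Q) {ξ : C → ℂ} (hξ : IsIrrCharacter C ξ)
    (hfix : IsFixed φC ξ) :
    ∃ χ : K → ℂ, IsIrrCharacter K χ ∧ IsFixed φ χ ∧ ¬ p ∣ rm ι χ ξ ∧
      ∀ χ' : K → ℂ, IsIrrCharacter K χ' → IsFixed φ χ' → ¬ p ∣ rm ι χ' ξ → χ' = χ := by
  haveI := Fintype.ofFinite Q
  haveI := Fintype.ofFinite (Q.comap ι)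
  obtain ⟨θ, hθ, hθfix, hover⟩ := h.exists_up hξ hfix
  obtain ⟨χ, h1, h2, h3, h4⟩ := (h.over_fixed hθ hθfix).2 ξ hξ hfix hover
  refine ⟨χ, h1, h2, h3, fun χ' hχ' hfix' hnd => h4 χ' hχ' hfix' ?_ hnd⟩
  exact h.over_of_rm_ne_zero hχ' hξ hθ (fun h0 => hnd (h0 ▸ dvd_zero p)) hover

/-- Degrees modulo `p`. -/
theorem Setting.degree_modEq (h : Setting p φ φC ι Q) {χ : K → ℂ} (hχ : IsIrrCharacter K χ)
    (hfix : IsFixed φ χ) {ξ : C → ℂ} (hξ : IsIrrCharacter C ξ) (hξfix : IsFixed φC ξ)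
    (hrest : ∀ ξ' : C → ℂ, IsIrrCharacter C ξ' → IsFixed φC ξ' → ξ' ≠ ξ → p ∣ rm ι χ ξ')
    {n d : ℕ} (hn : χ 1 = n) (hd : ξ 1 = d) : (n : ZMod p) = (rm ι χ ξ : ZMod p) * (d : ZMod p) := by
  classical
  haveI := Fintype.ofFinite (IrrCharacter C)
  obtain ⟨c, hc, hcn⟩ := IsCharacter.decompose (IsCharacter.comp_hom (IsIrrCharacter.isCharacter hχ) ι)
  choose e he0 he using fun η : IrrCharacter C => IsIrrCharacter.exists_degree η.2
  have hcr : ∀ η : IrrCharacter C, c η = rm ι χ (η : C → ℂ) := fun η => by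
    have := (hcn η).symm.trans
      (rm_spec (IsIrrCharacter.isCharacter hχ) (IsIrrCharacter.isCharacter η.2))
    exact_mod_cast this
  have hsum : n = ∑ η, c η * e η := by
    have h1 := congrFun hc 1
    simp only [Finset.sum_apply, Pi.smul_apply, smul_eq_mul, he, map_one, hn] at h1
    exact_mod_cast h1
  letI := GlauberChar.charAction φC
  have hinv : ∀ (s : P) (η : IrrCharacter C), c (s • η) * e (s • η) = c η * e η := by
    intro s η
    have hc1 : c (s • η) = c η := by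
      have h2 := (hcn (s • η)).symm.trans ((classInner_comp_fixed φC (χ := fun x => χ (ι x))
        (fun t x => (congrArg χ (h.comm t x)).trans (hfix t (ι x))) s⁻¹ (η : C → ℂ)).trans (hcn η))
      exact_mod_cast h2
    have he1 : e (s • η) = e η := by
      have h2 := (he (s • η)).symm
      change (e (s • η) : ℂ) = (η : C → ℂ) (φC s⁻¹ 1) at h2
      rw [map_one, he η] at h2
      exact_mod_cast h2
    rw [hc1, he1]
  have hcong := GlauberChar.cong_sum_fixed (p := p) h.pgroup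
    (fun η : IrrCharacter C => ((c η * e η : ℕ) : ℂ)) (fun η => GlauberChar.isIntegral_natCast' _)
    (fun s η => by rw [hinv])
  rw [← Nat.cast_sum, ← Nat.cast_sum, ← Int.cast_natCast, ← Int.cast_natCast (R := ℂ)] at hcong
  have hdvd := GlauberChar.int_dvd_of_cong hp.out.ne_zero hcong
  rw [← hsum] at hdvd
  set S := Finset.univ.filter (fun η : IrrCharacter C => ∀ s : P, s • η = η)
  have hmem : (⟨ξ, hξ⟩ : IrrCharacter C) ∈ S :=
    Finset.mem_filter.mpr ⟨Finset.mem_univ _, (GlauberChar.isFixed_iff_smul φC ⟨ξ, hξ⟩).mpr hξfix⟩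
  rw [← ZMod.intCast_zmod_eq_zero_iff_dvd, Int.cast_sub, sub_eq_zero, Int.cast_natCast, Int.cast_natCast,
    ← Finset.add_sum_erase _ _ hmem, Nat.cast_add] at hdvd
  rw [hdvd]
  have hde : e ⟨ξ, hξ⟩ = d := by
    have := (he ⟨ξ, hξ⟩).symm.trans hd
    exact_mod_cast this
  rw [hde, hcr, Nat.cast_mul, add_eq_left, ZMod.natCast_eq_zero_iff]
  refine Finset.dvd_sum fun η hη => dvd_mul_of_dvd_left ?_ _
  obtain ⟨hne, hηS⟩ := Finset.mem_erase.mp hη
  rw [hcr]
  exact hrest η η.2 ((GlauberChar.isFixed_iff_smul φC η).mp (Finset.mem_filter.mp hηS).2)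
    fun e0 => hne (Subtype.ext e0)

end Cfsg.Agent.RelGlauber
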